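import Groth.Agent.DivDepth.Cycle
import Groth.Agent.Ref1.Classes
import Groth.Agent.InvBasic.OfBasis

/-!
Prime cycles and invertible modules on a normal integral scheme: height one primes of local rings,
Picard group versus principal cycles, passage to open subschemes.
-/

set_option autoImplicit false
universe u

open CategoryTheory AlgebraicGeometry TopologicalSpace Order

namespace Groth.Agent.DivDepth

variable {X : Scheme.{u}} [IsIntegral X] [IsLocallyNoetherian X]

/-- A height one prime of a local ring is given by a point of codimension one. -/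
theorem exists_pt (x : X) (Q : Ideal (X.presheaf.stalk x)) [Q.IsPrime] (hQ : Q.height = 1) :
    ∃ (y : X) (h : y ⤳ x), coheight y = 1 ∧
      (IsLocalRing.maximalIdeal (X.presheaf.stalk y)).comap (X.presheaf.stalkSpecializes h).hom = Q := by
  obtain ⟨W, hW, hxW, -⟩ := exists_isAffineOpen_mem_and_subset (X := X) (x := x) (U := ⊤) trivial
  letI : Algebra Γ(X, W) (X.presheaf.stalk x) := (X.presheaf.germ W x hxW).hom.toAlgebra
  haveI : IsLocalization.AtPrime (X.presheaf.stalk x) (hW.primeIdealOf ⟨x, hxW⟩).asIdeal :=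
    hW.isLocalization_stalk ⟨x, hxW⟩
  have hle : Q.comap (algebraMap Γ(X, W) (X.presheaf.stalk x)) ≤ (hW.primeIdealOf ⟨x, hxW⟩).asIdeal := by
    intro r hr
    by_contra hr'
    exact (inferInstance : Q.IsPrime).ne_top (Ideal.eq_top_of_isUnit_mem _ hr ((isUnit_germ_iff hW hxW r).2 hr'))
  let q : PrimeSpectrum Γ(X, W) := ⟨Q.comap (algebraMap Γ(X, W) (X.presheaf.stalk x)), inferInstance⟩
  let y : X := InvExtend.pt hW q
  have hyW : y ∈ W := InvExtend.pt_mem hW q
  have hyx : y ⤳ x := by
    rw [InvExtend.specializes_iff hW hxW hyW, InvExtend.primeIdealOf_pt]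
    exact hle
  refine ⟨y, hyx, ?_, Ideal.ext fun b => ?_⟩
  · have e := height_primeIdealOf hW hyW
    have e2 : q.asIdeal.height = Q.height :=
      IsLocalization.height_under (A := X.presheaf.stalk x) (hW.primeIdealOf ⟨x, hxW⟩).asIdeal.primeCompl Q
    rw [InvExtend.primeIdealOf_pt, e2, hQ] at e
    exact_mod_cast e.symm
  · obtain ⟨⟨r, s⟩, hrs⟩ := IsLocalization.surj (hW.primeIdealOf ⟨x, hxW⟩).asIdeal.primeCompl b
    have hs := IsLocalization.map_units (X.presheaf.stalk x) s
    have hu : IsUnit (X.presheaf.stalkSpecializes hyx (algebraMap Γ(X, W) (X.presheaf.stalk x) s)) := hs.map _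
    have e : IsUnit (X.presheaf.stalkSpecializes hyx b) ↔ r ∉ q.asIdeal := by
      rw [← (IsUnit.mul_iff.trans (and_iff_left hu)), ← map_mul, hrs]
      refine (iff_of_eq (congrArg IsUnit (stalkSpecializes_germ hxW hyx r))).trans ?_
      rw [isUnit_germ_iff hW, InvExtend.primeIdealOf_pt]
    rw [Ideal.mem_comap, IsLocalRing.mem_maximalIdeal, mem_nonunits_iff, e, not_not, Ideal.mem_comap, ← hrs,
      Ideal.mul_unit_mem_iff_mem _ hs]

variable (hX : Pi1.IsNormalScheme X)

include hX in
/-- A regular function cutting out a prime cycle generates the ideal of that cycle. -/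
theorem span_eq {x y : X} (hyx : y ⤳ x) (hy : coheight y = 1) {g : X.presheaf.stalk x}
    {f : X.functionField} (hg : algebraMap (X.presheaf.stalk x) X.functionField g = f) (hf : f ≠ 0)
    (h1 : Scheme.ord f y = 1) (h0 : ∀ y' : X, y' ⤳ x → y' ≠ y → coheight y' = 1 → Scheme.ord f y' = 0) :
    (IsLocalRing.maximalIdeal (X.presheaf.stalk y)).comap (X.presheaf.stalkSpecializes hyx).hom = Ideal.span {g} := by
  refine le_antisymm (fun b hb => ?_) ((Ideal.span_singleton_le_iff_mem _).2 ?_)
  · by_cases hb0 : b = 0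
    · rw [hb0]; exact zero_mem _
    have hbK := (map_ne_zero_iff _ (Ref1.algebraMap_stalk_injective x)).2 hb0
    obtain ⟨c, hc⟩ := (Ref1.mem_range_iff_ord hX x (div_ne_zero hbK hf)).2 fun y' hy' hy1' => by
      have hb' : X.presheaf.stalkSpecializes hy' b ≠ 0 := fun e => hbK (by
        rw [← Ref1.algebraMap_specializes hy' b, e, map_zero])
      rw [Ref1.ord_div hbK hf, ← Ref1.algebraMap_specializes hy' b]
      by_cases e : y' = y
      · subst e
        have := ord_pos_of_not_isUnit hX hy1' hb' ((IsLocalRing.mem_maximalIdeal _).1 (Ideal.mem_comap.1 hb))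
        omega
      · rw [h0 y' hy' e hy1', sub_zero]
        exact Ref1.ord_algebraMap_nonneg hb'
    refine Ideal.mem_span_singleton'.2 ⟨c, Ref1.algebraMap_stalk_injective x ?_⟩
    rw [map_mul, hc, hg, div_mul_cancel₀ _ hf]
  · rw [Ideal.mem_comap, IsLocalRing.mem_maximalIdeal]
    intro hu
    rw [← hg, ← Ref1.algebraMap_specializes hyx g] at h1
    exact zero_ne_one ((Ref1.ord_algebraMap_of_isUnit hu).symm.trans h1)

include hX in
lemma ord_irreducible {y : X} (hy : coheight y = 1) {p : X.presheaf.stalk y} (hp : Irreducible p) :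
    Scheme.ord (algebraMap (X.presheaf.stalk y) X.functionField p) y = 1 := by
  haveI := Ref1.isDVR hX hy
  obtain ⟨ϖ, hϖ, h1⟩ := Ref1.exists_uniformizer hX hy
  obtain ⟨v, hv⟩ := IsDiscreteValuationRing.associated_of_irreducible (X.presheaf.stalk y) hϖ hp
  rw [← hv, map_mul, Scheme.ord_mul ((map_ne_zero_iff _ (Ref1.algebraMap_stalk_injective y)).2 hϖ.ne_zero)
    ((map_ne_zero_iff _ (Ref1.algebraMap_stalk_injective y)).2 v.ne_zero), h1,
    Ref1.ord_algebraMap_of_isUnit v.isUnit, add_zero]

include hX in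
lemma ord_unit_mul_pow {y : X} (hy : coheight y = 1) {p : X.presheaf.stalk y} (hp : Irreducible p)
    (u : (X.presheaf.stalk y)ˣ) (n : ℕ) :
    Scheme.ord (algebraMap (X.presheaf.stalk y) X.functionField (u * p ^ n)) y = n := by
  have hu := (map_ne_zero_iff _ (Ref1.algebraMap_stalk_injective y)).2 u.ne_zero
  have hp0 := (map_ne_zero_iff _ (Ref1.algebraMap_stalk_injective y)).2 hp.ne_zero
  induction n with
  | zero => rw [pow_zero, mul_one, Ref1.ord_algebraMap_of_isUnit u.isUnit]; rfl
  | succ n ih =>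
    rw [pow_succ, ← mul_assoc, map_mul, Scheme.ord_mul (by rw [map_mul, map_pow]; exact mul_ne_zero hu (pow_ne_zero n hp0)) hp0,
      ih, ord_irreducible hX hy hp, Nat.cast_succ]

omit [IsLocallyNoetherian X] in
/-- Finitely many points of codimension one in the support, on a quasi-compact scheme. -/
lemma finite_supp [CompactSpace X] {D : X → ℤ} (hD : Ref1.Fin D) :
    {y : X | coheight y = 1 ∧ D y ≠ 0}.Finite := by
  choose W hW hxW _ using fun x : X => exists_isAffineOpen_mem_and_subset (X := X) (x := x) (U := ⊤) trivial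
  obtain ⟨T, hT⟩ := isCompact_univ.elim_finite_subcover (fun x : X => (W x : Set X)) (fun x => (W x).isOpen)
    fun x _ => Set.mem_iUnion.2 ⟨x, hxW x⟩
  refine (T.finite_toSet.biUnion fun x _ => hD _ (hW x)).subset fun y hy => ?_
  obtain ⟨x, hx, hyx⟩ := Set.mem_iUnion₂.1 (hT (Set.mem_univ y))
  exact Set.mem_iUnion₂.2 ⟨x, hx, hyx, hy.1, hy.2⟩

/-- If prime cycles are principal, so are all cycles. -/
theorem exists_ord_eq_of_prime [CompactSpace X]
    (h : ∀ x₀ : X, coheight x₀ = 1 → ∃ f : X.functionField, f ≠ 0 ∧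
      Scheme.ord f x₀ = 1 ∧ ∀ x : X, x ≠ x₀ → coheight x = 1 → Scheme.ord f x = 0)
    {D : X → ℤ} (hD : Ref1.Fin D) :
    ∃ c : X.functionField, c ≠ 0 ∧ ∀ y, coheight y = 1 → Scheme.ord c y = D y := by
  classical
  suffices ∀ T : Finset X, (∀ y ∈ T, coheight y = 1) → ∃ c : (X.functionField)ˣ, ∀ y : X, coheight y = 1 →
      Scheme.ord (c : X.functionField) y = if y ∈ T then D y else 0 by
    obtain ⟨c, hc⟩ := this (finite_supp hD).toFinset fun y hy => ((Set.Finite.mem_toFinset _).1 hy).1
    refine ⟨c, c.ne_zero, fun y hy => ?_⟩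
    rw [hc y hy]
    by_cases hDy : D y = 0
    · rw [if_neg fun h' => ((Set.Finite.mem_toFinset _).1 h').2 hDy, hDy]
    · exact if_pos ((Set.Finite.mem_toFinset _).2 (show y ∈ {z : X | coheight z = 1 ∧ D z ≠ 0} from ⟨hy, hDy⟩))
  intro T
  induction T using Finset.induction_on with
  | empty => exact fun _ => ⟨1, fun y _ => by rw [Units.val_one, Ref1.ord_one, if_neg (Finset.notMem_empty y)]⟩
  | @insert a s has ih =>
    intro hT
    obtain ⟨c, hc⟩ := ih fun y hy => hT y (Finset.mem_insert_of_mem hy)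
    obtain ⟨f, hf, h1, h0⟩ := h a (hT a (Finset.mem_insert_self a s))
    refine ⟨c * Units.mk0 f hf ^ D a, fun y hy => ?_⟩
    let o : (X.functionField)ˣ →* Multiplicative ℤ :=
      MonoidHom.mk' (fun u => Multiplicative.ofAdd (Scheme.ord (u : X.functionField) y)) fun u v => by
        rw [Units.val_mul, Scheme.ord_mul u.ne_zero v.ne_zero]; rfl
    have e : Scheme.ord ((Units.mk0 f hf ^ D a : (X.functionField)ˣ) : X.functionField) y = D a * Scheme.ord f y :=
      (congrArg Multiplicative.toAdd (map_zpow o (Units.mk0 f hf) (D a))).trans (by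
        rw [toAdd_zpow, smul_eq_mul]; rfl)
    rw [Units.val_mul, Scheme.ord_mul c.ne_zero (Units.ne_zero _), e, hc y hy]
    by_cases hya : y = a
    · subst hya
      rw [if_neg has, h1, if_pos (Finset.mem_insert_self y s), zero_add, mul_one]
    · rw [h0 y hya hy, mul_zero, add_zero]
      simp [hya]

include hX in
/-- An invertible module is `O(D)`. -/
theorem exists_rep_of_invertible {L : X.Modules} (hL : PicF.IsInvertible L) :
    ∃ (t : L.presheaf.stalk (genericPoint ↥X)) (D : X → ℤ), Ref1.Fin D ∧ Ref1.Rep L t D := by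
  classical
  choose U hxU l hl using InvBasic.exists_isBasis hL
  let gen : X → L.presheaf.stalk (genericPoint ↥X) := fun x =>
    L.presheaf.germ (U x) _ (Ref1.eta_mem (hxU x)) (l x)
  have hη : ∀ x, Function.Bijective fun c : X.functionField => c • gen x :=
    fun x => (hl x).stalk_bijective (Ref1.eta_mem (hxU x))
  have cancel : ∀ x {c d : X.functionField}, c • gen x = d • gen x → c = d := fun x _ _ h => (hη x).1 h
  let t := gen (genericPoint ↥X)
  choose a ha using fun x => (hη x).2 t
  have ha0 : ∀ x, a x ≠ 0 := fun x h => by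
    refine one_ne_zero (α := X.functionField) (cancel (genericPoint ↥X) ?_)
    have := ha x
    simp only [h, zero_smul] at this
    rw [one_smul, zero_smul]
    exact this.symm
  let D : X → ℤ := fun y => Scheme.ord (a y) y
  have hD : ∀ x y, y ∈ U x → Scheme.ord (a x) y = D y := by
    intro x y hy
    let φ := algebraMap (X.presheaf.stalk y) X.functionField
    obtain ⟨b, hb⟩ := ((hl y).stalk_bijective (hxU y)).2 (L.presheaf.germ (U x) y hy (l x))
    obtain ⟨d, hd⟩ := ((hl x).stalk_bijective hy).2 (L.presheaf.germ (U y) y (hxU y) (l y))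
    have hb' : φ b • gen y = gen x := by
      have := congrArg (Ref1.sp L y) hb
      rwa [Ref1.sp_smul, Ref1.sp_germ, Ref1.sp_germ] at this
    have hd' : φ d • gen x = gen y := by
      have := congrArg (Ref1.sp L y) hd
      rwa [Ref1.sp_smul, Ref1.sp_germ, Ref1.sp_germ] at this
    have hbu : IsUnit b := IsUnit.of_mul_eq_one d (Ref1.algebraMap_stalk_injective y (cancel y (by
      rw [map_mul, map_one, one_smul, mul_comm, mul_smul]
      exact (congrArg (φ d • ·) hb').trans hd')))
    have e : a y = a x * φ b := cancel y (by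
      rw [mul_smul, hb']
      exact (ha y).trans (ha x).symm)
    change _ = Scheme.ord (a y) y
    rw [e, Scheme.ord_mul (ha0 x) ((map_ne_zero_iff _ (Ref1.algebraMap_stalk_injective y)).2 hbu.ne_zero),
      Ref1.ord_algebraMap_of_isUnit hbu, add_zero]
  refine ⟨t, D, fun W hW => ?_, fun z => ?_, fun c hc => ?_, fun x p q hpq => ?_, fun x c => ?_⟩
  · by_cases hW0 : (W : Set X) = ∅
    · exact Set.finite_empty.subset fun y hy => (Set.eq_empty_iff_forall_notMem.1 hW0 y hy.1).elim
    obtain ⟨T, hT⟩ := hW.isCompact.elim_finite_subcover (fun x : X => (U x : Set X)) (fun x => (U x).isOpen)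
      fun x _ => Set.mem_iUnion.2 ⟨x, hxU x⟩
    refine (T.finite_toSet.biUnion fun x _ => Ref1.finite_ord_ne_zero hW (a x)).subset fun y hy => ?_
    obtain ⟨x, hx, hyx⟩ := Set.mem_iUnion₂.1 (hT hy.1)
    exact Set.mem_iUnion₂.2 ⟨x, hx, hy.1, hy.2.1, fun e => hy.2.2 ((hD x y hyx).symm.trans e)⟩
  · exact ((hη _).2 z).imp fun _ h => h.symm
  · exact cancel (genericPoint ↥X) (hc.trans (zero_smul _ _).symm)
  · obtain ⟨p', rfl⟩ := ((hl x).stalk_bijective (hxU x)).2 p
    obtain ⟨q', rfl⟩ := ((hl x).stalk_bijective (hxU x)).2 q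
    simp only [Ref1.sp_smul, Ref1.sp_germ] at hpq
    exact congrArg (· • _) (Ref1.algebraMap_stalk_injective x (cancel x hpq))
  · have hm : (∃ m, Ref1.sp L x m = c • t) ↔
        c * a x ∈ Set.range (algebraMap (X.presheaf.stalk x) X.functionField) := by
      constructor
      · rintro ⟨m, hm⟩
        obtain ⟨r, rfl⟩ := ((hl x).stalk_bijective (hxU x)).2 m
        rw [Ref1.sp_smul, Ref1.sp_germ] at hm
        exact ⟨r, cancel x (hm.trans ((congrArg (c • ·) (ha x).symm).trans (mul_smul c (a x) (gen x)).symm))⟩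
      · rintro ⟨r, hr⟩
        refine ⟨r • L.presheaf.germ (U x) x (hxU x) (l x), ?_⟩
        rw [Ref1.sp_smul, Ref1.sp_germ, hr, mul_smul]
        exact congrArg (c • ·) (ha x)
    rw [hm]
    by_cases hc : c = 0
    · subst hc
      exact iff_of_true ⟨0, by rw [map_zero, zero_mul]⟩ fun y _ _ => Or.inl rfl
    rw [Ref1.mem_range_iff_ord hX x (mul_ne_zero hc (ha0 x))]
    refine forall_congr' fun y => forall_congr' fun hy => forall_congr' fun hy1 => ?_
    rw [Scheme.ord_mul hc (ha0 x), hD x y (hy.mem_open (U x).isOpen (hxU x))]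
    simp only [Ref1.Ge, hc, false_or]
    omega

include hX in
/-- If prime cycles are principal, invertible modules are trivial. -/
theorem trivial_of_prime [CompactSpace X]
    (h : ∀ x₀ : X, coheight x₀ = 1 → ∃ f : X.functionField, f ≠ 0 ∧
      Scheme.ord f x₀ = 1 ∧ ∀ x : X, x ≠ x₀ → coheight x = 1 → Scheme.ord f x = 0)
    {L : X.Modules} (hL : PicF.IsInvertible L) : Nonempty (L ≅ Coh.structureModule X) := by
  obtain ⟨t, D, hfin, hR⟩ := exists_rep_of_invertible hX hL
  obtain ⟨c, hc, hcD⟩ := exists_ord_eq_of_prime h hfin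
  obtain ⟨-, t₁, hR₁⟩ := Ref1.hasDiv_structureModule hX
  refine (hR.rescale (inv_ne_zero hc)).exists_iso hR₁ fun y hy => ?_
  rw [Ref1.ord_inv hc, hcD y hy]
  ring

include hX in
/-- A locally principal cycle is principal if the Picard group is trivial. -/
theorem exists_ord_eq_of_pic (hpic : ∀ L : X.Modules, PicF.IsInvertible L → Nonempty (L ≅ Coh.structureModule X))
    (Z : X → ℤ) (hZ : Ref1.Fin Z) (h : ∀ x, Pr Z x) :
    ∃ c : X.functionField, c ≠ 0 ∧ ∀ y, coheight y = 1 → Scheme.ord c y = Z y := by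
  have hinv : PicF.IsInvertible (Ref1.Sh hX Z) := by
    refine InvBasic.isInvertible_of_isBasis fun x => ?_
    obtain ⟨f, hf⟩ := h x
    obtain ⟨W, hW, hxW, -⟩ := exists_isAffineOpen_mem_and_subset (X := X) (x := x) (U := ⊤) trivial
    obtain ⟨V, hxV, hV⟩ := Ref1.exists_open_avoiding
      (S := {y : X | y ∈ W ∧ coheight y = 1 ∧ Scheme.ord (f : X.functionField) y ≠ Z y})
      (((hZ W hW).union (Ref1.finite_ord_ne_zero hW (f : X.functionField))).subset fun y hy => by
        by_contra hh
        simp only [Set.mem_union, Set.mem_ofPred_eq, not_or, not_and, not_not] at hh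
        exact hy.2.2 (by rw [hh.1 hy.1 hy.2.1, hh.2 hy.1 hy.2.1]))
      (fun y hy hyx => hy.2.2 (hf y hyx hy.2.1))
    have hUf : ∀ y ∈ W ⊓ V, coheight y = 1 → Scheme.ord (f : X.functionField) y = Z y := fun y hy hy1 => by
      by_contra hne
      exact hV y ⟨hy.1, hy1, hne⟩ hy.2
    refine ⟨W ⊓ V, ⟨hxW, hxV⟩, Ref1.Sh.mk hX (f : X.functionField)⁻¹ (Ref1.inLat_mk_of_forall _ fun y hy hy1 =>
      Or.inr (by rw [Ref1.ord_inv f.ne_zero, hUf y hy hy1])), fun O hO => ⟨fun r r' e => ?_, fun s => ?_⟩⟩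
    · refine TopCat.Presheaf.section_ext X.sheaf O _ _ fun z hz => Ref1.algebraMap_stalk_injective z ?_
      have e' := congrArg (fun s => Ref1.Sh.val s ⟨z, hz⟩) e
      simp only [Ref1.Sh.val_smul, Ref1.Sh.val_map, Ref1.Sh.val_mk] at e'
      exact mul_right_cancel₀ (inv_ne_zero f.ne_zero) e'
    · rcases (O : Set X).eq_empty_or_nonempty with h0 | ⟨z₀, hz₀⟩
      · exact ⟨0, Ref1.Sh.ext _ _ fun z => (Set.eq_empty_iff_forall_notMem.1 h0 z.1 z.2).elim⟩
      obtain ⟨r, hr⟩ := Ref1.exists_section_of_forall_range hz₀ (Ref1.Sh.val s ⟨z₀, hz₀⟩ * f) fun z hz => by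
        by_cases hv : Ref1.Sh.val s ⟨z₀, hz₀⟩ = 0
        · exact ⟨0, by rw [map_zero, hv, zero_mul]⟩
        refine (Ref1.mem_range_iff_ord hX z (mul_ne_zero hv f.ne_zero)).2 fun y hy hy1 => ?_
        have hge := Ref1.Sh.inLat s ⟨z, hz⟩ y hy hy1
        rw [Ref1.Sh.const s ⟨z, hz⟩ ⟨z₀, hz₀⟩] at hge
        rw [Scheme.ord_mul hv f.ne_zero, hUf y (hy.mem_open (W ⊓ V).isOpen (hO hz)) hy1]
        have := hge.resolve_left hv
        omega
      refine ⟨r, Ref1.Sh.ext _ _ fun z => ?_⟩
      refine (Ref1.Sh.val_smul' _ _ _).trans ?_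
      change X.presheaf.germ O (genericPoint ↥X) (Ref1.eta_mem z.2) r * (f : X.functionField)⁻¹ = _
      rw [hr, mul_assoc, mul_inv_cancel₀ f.ne_zero, mul_one]
      exact Ref1.Sh.const s _ _
  obtain ⟨φ⟩ := hpic _ hinv
  obtain ⟨s, hs, -⟩ := Ref1.rep_Sh' hX hZ
  have hR := hs.transport φ
  obtain ⟨-, t₁, hR₁⟩ := Ref1.hasDiv_structureModule hX
  obtain ⟨c, hc⟩ := hR₁.span (QCohLib.stalkLinearMap φ.hom (genericPoint ↥X) s)
  have hc0 : c ≠ 0 := fun e => one_ne_zero (α := X.functionField) (hR.free 1 (by rw [one_smul, hc, e, zero_smul]))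
  rw [hc] at hR
  refine ⟨c, hc0, fun y hy => ?_⟩
  rw [hR.unique hX (hR₁.rescale hc0) hy, zero_add]

lemma fin_delta (x₀ : X) : Ref1.Fin (delta x₀) := fun W _ =>
  (Set.finite_singleton x₀).subset fun y hy => by_contra fun h => hy.2.2 (by rw [delta, if_neg (Set.mem_singleton_iff.not.1 h)])

section Open

variable (U : X.Opens) [hUne : Nonempty U] [IsIntegral (U : Scheme.{u})] [IsLocallyNoetherian (U : Scheme.{u})]

lemma ι_generic : U.ι (genericPoint ↥(U : Scheme.{u})) = genericPoint ↥X := genericPoint_eq_of_isOpenImmersion U.ι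

/-- The comparison of function fields. -/
noncomputable def resK : X.functionField ⟶ (U : Scheme.{u}).functionField :=
  X.presheaf.stalkSpecializes (specializes_of_eq (ι_generic U)) ≫ U.ι.stalkMap _

lemma resK_bijective : Function.Bijective (resK U) := by
  have : IsIso (X.presheaf.stalkSpecializes (specializes_of_eq (ι_generic U))) :=
    ⟨X.presheaf.stalkSpecializes (specializes_of_eq (ι_generic U).symm),
      by rw [TopCat.Presheaf.stalkSpecializes_comp, TopCat.Presheaf.stalkSpecializes_refl],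
      by rw [TopCat.Presheaf.stalkSpecializes_comp, TopCat.Presheaf.stalkSpecializes_refl]⟩
  have : IsIso (resK U) := by unfold resK; infer_instance
  exact ConcreteCategory.bijective_of_isIso (resK U)

lemma resK_algebraMap (u : ↥(U : Scheme.{u})) (a : X.presheaf.stalk (U.ι u)) :
    resK U (algebraMap (X.presheaf.stalk (U.ι u)) X.functionField a) =
      algebraMap ((U : Scheme.{u}).presheaf.stalk u) (U : Scheme.{u}).functionField (U.ι.stalkMap u a) := by
  refine Eq.trans ?_ (Scheme.Hom.stalkSpecializes_stalkMap_apply U.ι _ u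
    ((genericPoint_spec _).specializes trivial) a)
  rw [resK, CommRingCat.comp_apply]
  refine congrArg _ ?_
  exact TopCat.Presheaf.stalkSpecializes_comp_apply X.presheaf _ _ a

lemma coheight_ι (u : ↥(U : Scheme.{u})) : coheight (U.ι u) = coheight u := by
  have e := ringKrullDim_eq_of_ringEquiv
    (RingEquiv.ofBijective (U.ι.stalkMap u).hom (ConcreteCategory.bijective_of_isIso (U.ι.stalkMap u)))
  rw [ringKrullDim_stalk_eq_coheight, ringKrullDim_stalk_eq_coheight] at e
  exact_mod_cast e

include hX in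
omit [IsLocallyNoetherian X] hUne [IsIntegral (U : Scheme.{u})] [IsLocallyNoetherian (U : Scheme.{u})] in
lemma normal_open : Pi1.IsNormalScheme (U : Scheme.{u}) := fun u =>
  let e := RingEquiv.ofBijective (U.ι.stalkMap u).hom (ConcreteCategory.bijective_of_isIso (U.ι.stalkMap u))
  haveI := (hX (U.ι u)).1
  haveI := (hX (U.ι u)).2
  ⟨e.symm.toMulEquiv.isDomain _, IsIntegrallyClosed.of_equiv e⟩

include hX in
/-- Orders are computed in an open subscheme. -/
theorem ord_resK (u : ↥(U : Scheme.{u})) (f : X.functionField) :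
    Scheme.ord (resK U f) u = Scheme.ord f (U.ι u) := by
  by_cases hu : coheight u = 1
  swap
  · rw [Scheme.ord_eq_zero_of_coheight_neq_one hu, Scheme.ord_eq_zero_of_coheight_neq_one (by rwa [coheight_ι])]
  have hy : coheight (U.ι u) = 1 := by rw [coheight_ι, hu]
  haveI := Ref1.isDVR hX hy
  let e := RingEquiv.ofBijective (U.ι.stalkMap u).hom (ConcreteCategory.bijective_of_isIso (U.ι.stalkMap u))
  obtain ⟨ϖ, hϖ⟩ := IsDiscreteValuationRing.exists_irreducible (X.presheaf.stalk (U.ι u))
  have key : ∀ a : X.presheaf.stalk (U.ι u), a ≠ 0 →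
      Scheme.ord (resK U (algebraMap (X.presheaf.stalk (U.ι u)) X.functionField a)) u =
        Scheme.ord (algebraMap (X.presheaf.stalk (U.ι u)) X.functionField a) (U.ι u) := by
    intro a ha
    obtain ⟨n, v, rfl⟩ := IsDiscreteValuationRing.eq_unit_mul_pow_irreducible ha hϖ
    rw [resK_algebraMap, ord_unit_mul_pow hX hy hϖ]
    have h' : Irreducible (e ϖ) := (MulEquiv.irreducible_iff e.toMulEquiv).2 hϖ
    have := ord_unit_mul_pow (normal_open hX U) hu h' (Units.map e.toRingHom.toMonoidHom v) n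
    refine Eq.trans (congrArg (fun z => Scheme.ord (algebraMap _ _ z) u) ?_) this
    change e (v * ϖ ^ n) = _
    rw [map_mul, map_pow]
    rfl
  obtain ⟨a, b, hb, rfl⟩ := IsFractionRing.div_surjective (A := X.presheaf.stalk (U.ι u)) f
  by_cases ha : a = 0
  · rw [ha, map_zero, zero_div, map_zero, Scheme.ord_zero, Scheme.ord_zero]; rfl
  have hi := Ref1.algebraMap_stalk_injective (U.ι u)
  have ha' := (map_ne_zero_iff _ hi).2 ha
  have hb' := (map_ne_zero_iff _ hi).2 (nonZeroDivisors.ne_zero hb)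
  rw [map_div₀, Ref1.ord_div ((map_ne_zero _).2 ha') ((map_ne_zero _).2 hb'), Ref1.ord_div ha' hb',
    key a ha, key b (nonZeroDivisors.ne_zero hb)]

end Open

end Groth.Agent.DivDepth
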